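import Cfsg.Agent.H36.O8R.V7

/-!
# S3691, row `PΩ⁺₈(q)`, SPIN: DATA-OM from its parts (helper36)
-/

set_option autoImplicit false

namespace Cfsg.Agent.H36.O8R

open Module QuadraticMap Cfsg Cfsg.Agent.LieClassical.OrthCore Cfsg.Agent.LieClassical.OrthTrans
  Cfsg.Agent.LieClassical.QuadForms Cfsg.Agent.H466.O8R Cfsg.Agent.H953.O8R

variable {K : Type} [Field K] [Fintype K] {n : ℕ}

/-- `s`, `g i` (helper466) -/
def PartM (K : Type) [Field K] : Prop :=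
  ∃ (s : V7 K ≃ₗ[K] V7 K) (g : Fin 5 → (V7 K ≃ₗ[K] V7 K)), s ∈ ⁅O (oddForm 3 K), O (oddForm 3 K)⁆ ∧
    (∀ i, g i ∈ ⁅O (oddForm 3 K), O (oddForm 3 K)⁆) ∧ s ^ 7 = 1 ∧
    (∀ x ∈ MM K, ∀ y ∈ MM K, x * (s * y * s⁻¹) = (s * y * s⁻¹) * x) ∧ g 0 = 1 ∧
    (∀ i : Fin 5, i ≠ 0 → ∃ j < i, ∃ x ∈ cj (g i) (MM K), x ∈ cj (g j) (MM K) ∧ x ^ 2 ≠ 1) ∧
    ⨆ i, cj (g i) (MM K) = ⁅O (oddForm 3 K), O (oddForm 3 K)⁆

/-- `t i`, `P i`, `L i = Ω(P iᗮ)` (helper292) -/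
def PartT (K : Type) [Field K] (n : ℕ) : Prop :=
  ∃ (t : Fin 3 → (V7 K ≃ₗ[K] V7 K)) (P : Fin 3 → Submodule K (V7 K)),
    (∀ i, finrank K (P i) = 2) ∧ (∀ i, ∀ v ∈ P i, oddForm 3 K v = 0 → v = 0) ∧
    (∀ i, t i ∈ ⁅O (oddForm 3 K), O (oddForm 3 K)⁆) ∧ (∀ i, t i ^ n = 1) ∧ (∀ i, t i ^ 2 ≠ 1) ∧
    (∀ i, ∀ x ∈ Om (oddForm 3 K) (P i), x * t i = t i * x) ∧ (∀ i j, i ≠ j → t j ∈ Om (oddForm 3 K) (P i)) ∧
    (∀ i, ∃ g ∈ ⁅O (oddForm 3 K), O (oddForm 3 K)⁆, t i = g * t 0 * g⁻¹ ∧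
      Om (oddForm 3 K) (P i) = cj g (Om (oddForm 3 K) (P 0))) ∧
    t 0 ∈ MM K ∧ MM K ≤ Om (oddForm 3 K) (P 1) ∧ MM K ≤ Om (oddForm 3 K) (P 2)

/-- `Ω₅(q)` (helper885) -/
def PartL {K : Type} [Field K] (P : Submodule K (V7 K)) : Prop :=
  ⁅Om (oddForm 3 K) P, Om (oddForm 3 K) P⁆ = Om (oddForm 3 K) P ∧
    ∃ A B : Subgroup (V7 K ≃ₗ[K] V7 K), A ≤ Om (oddForm 3 K) P ∧ B ≤ Om (oddForm 3 K) P ∧ (∀ a ∈ A, ∀ b ∈ B, a * b = b * a) ∧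
      ⁅A, A⁆ = A ∧ ⁅B, B⁆ = B ∧
      (∀ N : Subgroup (V7 K ≃ₗ[K] V7 K), N ≤ Om (oddForm 3 K) P → (∀ g ∈ Om (oddForm 3 K) P, ∀ x ∈ N, g * x * g⁻¹ ∈ N) → A ≤ N →
        N = Om (oddForm 3 K) P) ∧
      (∀ N : Subgroup (V7 K ≃ₗ[K] V7 K), N ≤ Om (oddForm 3 K) P → (∀ g ∈ Om (oddForm 3 K) P, ∀ x ∈ N, g * x * g⁻¹ ∈ N) → B ≤ N →
        N = Om (oddForm 3 K) P)

/-- `Ω₃(q)` (helper885) -/
def PartS (K : Type) [Field K] : Prop :=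
  ⁅MM K, MM K⁆ = MM K ∧
    ∀ N : Subgroup (V7 K ≃ₗ[K] V7 K), N ≤ MM K → (∀ g ∈ MM K, ∀ x ∈ N, g * x * g⁻¹ ∈ N) → (∃ x ∈ N, x ^ 2 ≠ 1) → N = MM K

/-- **DATA-OM from its parts** -/
theorem data_om_of (hodd : Odd (Fintype.card K)) (hM : PartM K) (hT : PartT K n)
    (hL : ∀ P : Submodule K (V7 K), finrank K P = 2 → (∀ v ∈ P, oddForm 3 K v = 0 → v = 0) → PartL P) (hS : PartS K) :
    ∃ (t : Fin 3 → POmega K (quadFormOdd 3 K)) (L : Fin 3 → Subgroup (POmega K (quadFormOdd 3 K)))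
      (A B M : Subgroup (POmega K (quadFormOdd 3 K))) (s : POmega K (quadFormOdd 3 K)) (k : ℕ)
      (g : Fin 5 → POmega K (quadFormOdd 3 K)), DOm (POmega K (quadFormOdd 3 K)) n t L A B M s k g := by
  obtain ⟨f, hf, hr⟩ := exists_hom7 (K := K) (two_ne hodd)
  obtain ⟨s, g, hs, hg, hs7, hsc, hg0, hlink, htop⟩ := hM
  obtain ⟨t, P, hP, hP0, ht, htn, ht2, hcent, hmem, hconj, ht0, hM1, hM2⟩ := hT
  have hL' := fun i => hL (P i) (hP i) (hP0 i)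
  obtain ⟨-, A, B, hA, hB, hAB, hAp, hBp, hAt, hBt⟩ := hL' 0
  refine DOmIn.exists_dom (f := f) (X := ⁅O (oddForm 3 K), O (oddForm 3 K)⁆) (t := t)
    (L := fun i => Om (oddForm 3 K) (P i)) (A := A) (B := B) (M := MM K) (s := s) (k := 7) (g := g) ?_ hf hr
  exact
    { t_mem := ht
      L_le := fun i => Om_le
      M_le := Om_le
      s_mem := hs
      g_mem := hg
      pow := htn
      sq := ht2
      perf := fun i => (hL' i).1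
      cent := hcent
      mem := hmem
      conj := hconj
      A_le := hA
      B_le := hB
      comm := hAB
      A_perf := hAp
      B_perf := hBp
      A_top := hAt
      B_top := hBt
      M_perf := hS.1
      t_zero := ht0
      le₁ := hM1
      le₂ := hM2
      M_top := fun N h1 h2 h3 => hS.2 N h1 h2 ⟨_, h3, ht2 0⟩
      odd := by decide
      s_pow := hs7
      s_comm := hsc
      g_zero := hg0
      link := hlink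
      top := htop }

end Cfsg.Agent.H36.O8R
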