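import Cfsg.Agent.H833.Spr4.Gen
import Cfsg.Agent.H117.EP.ModelPSL
import Cfsg.Agent.H436.Ppd

/-!
# S3691, `PΩ⁺₈(q)`: a subgroup of `PSU₄(q)`, `q ≥ 16`, of order divisible by `s^k`, `s = r₆`, and `r = r₄` is everything
(helper36)
-/

set_option autoImplicit false

namespace Cfsg.Agent.H36.O8R

open Cfsg Cfsg.Geo Module Subgroup Cfsg.Agent.H251 Cfsg.Agent.H951 Cfsg.Agent.H833.Spr4 Cfsg.Agent.H436
open Cfsg.Agent.H419.EP (Model)
open scoped Matrix MatrixGroups

section num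

variable {p a s r : ℕ}

theorem ord_three (hp : p.Prime) (ha : 1 ≤ a) (h : Prim p (6 * a) s) : orderOf (-((p ^ a : ℕ) : ZMod s)) = 3 := by
  have hs := Fact.mk h.prime
  have h3 : Fact (Nat.Prime 3) := ⟨Nat.prime_three⟩
  apply orderOf_eq_prime
  · have h1 : s ∣ p ^ (3 * a) + 1 := h.dvd_add ⟨1, by ring⟩ (by
      intro hd
      have := Nat.le_of_dvd (by omega) hd
      omega)
    have h2 : ((p ^ (3 * a) + 1 : ℕ) : ZMod s) = 0 := (ZMod.natCast_eq_zero_iff _ _).2 h1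
    have h4 : p ^ (3 * a) = (p ^ a) ^ 3 := by rw [← pow_mul, mul_comm]
    rw [h4] at h2
    push_cast at h2 ⊢
    linear_combination -h2
  · intro h1
    have h2 : s ∣ p ^ a + 1 := by
      rw [← ZMod.natCast_eq_zero_iff]
      push_cast at h1 ⊢
      linear_combination -h1
    exact h.not_dvd_add (m := a) (by
      intro hd
      have := Nat.le_of_dvd (by omega) hd
      omega) h2

theorem ord_four (ha : 1 ≤ a) (h : Prim p (4 * a) r) : orderOf (-((p ^ a : ℕ) : ZMod r)) = 4 := by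
  have hr := Fact.mk h.prime
  have h2 : Fact (Nat.Prime 2) := ⟨Nat.prime_two⟩
  have hp1 : 1 ≤ p := by
    by_contra hcon
    have : p = 0 := by omega
    exact h.not_dvd (by rw [this]; exact dvd_zero _)
  have key : ∀ m : ℕ, (((p ^ a : ℕ) : ZMod r)) ^ m = 1 ↔ 4 * a ∣ a * m := by
    intro m
    rw [← h.dvd_iff]
    have h3 : (((p ^ a : ℕ) : ZMod r)) ^ m = 1 ↔ ((p ^ (a * m) - 1 : ℕ) : ZMod r) = 0 := by
      rw [Nat.cast_sub (Nat.one_le_pow _ _ hp1), pow_mul]
      push_cast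
      exact sub_eq_zero.symm
    rw [h3, ZMod.natCast_eq_zero_iff]
  have h4 := orderOf_eq_prime_pow (x := -((p ^ a : ℕ) : ZMod r)) (p := 2) (n := 1) (by
    intro h5
    rw [show 2 ^ 1 = 2 by norm_num, neg_sq, key] at h5
    have := Nat.le_of_dvd (by omega) h5
    omega) (by
    rw [show 2 ^ (1 + 1) = 4 by norm_num, Even.neg_pow (by decide), key]
    exact ⟨1, by ring⟩)
  exact h4

theorem ord_sq_four (ha : 1 ≤ a) (h : Prim p (4 * a) r) : 2 ≤ orderOf ((((p ^ a) ^ 2 : ℕ) : ZMod r)) := by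
  have hr := Fact.mk h.prime
  have h1 := ord_four ha h
  have h2 : (((p ^ a) ^ 2 : ℕ) : ZMod r) = (-((p ^ a : ℕ) : ZMod r)) ^ 2 := by
    rw [neg_sq]
    push_cast
    ring
  rw [h2, orderOf_pow' _ (by norm_num), h1]
  norm_num

end num

/-- **the subgroups of `PSU₄(q)`** -/
theorem psu4_top {K : Type} [Field K] [Fintype K] {p a s k r : ℕ} (hK : Fintype.card K = (p ^ a) ^ 2) (hp : p.Prime)
    (ha : 1 ≤ a) (h16 : 4 ≤ p ^ a) (hs : Prim p (6 * a) s) (hsc : (13 ≤ s ∧ k = 1) ∨ (s = 7 ∧ k = 2))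
    (hr : Prim p (4 * a) r) (hL : ResList K (p ^ a)) (R : Subgroup (Cfsg.PSU 4 K (p ^ a))) (hsR : s ^ k ∣ Nat.card R)
    (hrR : r ∣ Nat.card R) : R = ⊤ := by
  classical
  by_contra hne
  obtain ⟨M, hM, hRM⟩ := (eq_top_or_exists_le_coatom R).resolve_left hne
  replace hsR := hsR.trans (Subgroup.card_dvd_of_le hRM)
  replace hrR := hrR.trans (Subgroup.card_dvd_of_le hRM)
  obtain ⟨m⟩ := Cfsg.Agent.H117.EP.model_PSU (F := K) (n := 4) hK (by norm_num)
  have hH := m.isMaximalIn hM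
  have hsf := Fact.mk hs.prime
  have hrf := Fact.mk hr.prime
  -- `Ĥ / scalars ≃ M`
  let f : m.hat M →* M :=
    { toFun := fun h => ⟨m.π ⟨h, m.hat_le M h.2⟩, (m.mem_hat_iff ⟨h, m.hat_le M h.2⟩).1 h.2⟩
      map_one' := Subtype.ext (map_one m.π)
      map_mul' := fun x y => Subtype.ext (map_mul m.π ⟨x, m.hat_le M x.2⟩ ⟨y, m.hat_le M y.2⟩) }
  have hfs : Function.Surjective f := by
    rintro ⟨y, hy⟩
    obtain ⟨x, rfl⟩ := m.surj y
    exact ⟨⟨x, (m.mem_hat_iff x).2 hy⟩, Subtype.ext rfl⟩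
  have hfk : f.ker = (Cfsg.Geo.scalars (Fin 4) K).subgroupOf (m.hat M) := by
    ext x
    rw [MonoidHom.mem_ker, mem_subgroupOf, ← m.ker ⟨x, m.hat_le M x.2⟩]
    exact ⟨fun h => congrArg Subtype.val h, fun h => Subtype.ext h⟩
  have hdvd : ∀ n : ℕ, n ∣ Nat.card M → n ∣ Nat.card (m.hat M) := fun n hn =>
    hn.trans (Subgroup.card_dvd_of_surjective f hfs)
  have hsk : s ∣ Nat.card M := (dvd_pow_self s (by rcases hsc with h | h <;> omega)).trans hsR
  obtain ⟨x, hx⟩ := exists_prime_orderOf_dvd_card' s (hdvd s hsk)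
  rcases cases_of (F := K) hK hp rfl ha hs.prime (fun j => by
      rw [hs.dvd_iff]) (ord_three hp ha hs) (by rcases hsc with h | h <;> omega) hL hH
      (x := (x : GL (Fin 4) K)) x.2 (by rw [Subgroup.orderOf_coe, hx]) with h1 | h1 | h1
  · obtain ⟨W, hW1, -, hW⟩ := h1
    have hrq : ¬ r ∣ p ^ a := hr.not_dvd_pow a
    obtain ⟨g, hg, hi, hgr, hg1⟩ := GeoU.exists_elt (q := p ^ a) hr.prime (hdvd r hrR) (hH.1.le.trans inf_le_left)
    have h2 := GeoU.fix_le hK hrq hi hgr hg1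
    rw [ord_four ha hr] at h2
    have h3 : finrank K ↥(fx (Matrix.toLin' (g : Matrix (Fin 4) (Fin 4) K))) = 0 := by omega
    rw [Submodule.finrank_eq_zero] at h3
    have h4 := GeoU.le_fx (GeoU.natCast_ne hK hr.prime hrq) hgr (GeoU.inv_of_mem (hW hg)) (by
      rw [hW1, hK]
      exact ord_sq_four ha hr)
    rw [h3, le_bot_iff] at h4
    rw [h4, finrank_bot] at hW1
    omega
  · obtain ⟨P, hs7, hP, ⟨e⟩⟩ := h1
    have hk2 : k = 2 := by rcases hsc with h | h <;> omega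
    obtain ⟨φ, hφ⟩ := H900.SU4.exists_core_inj hP
    obtain ⟨ψ, hψ⟩ := StandardComponent.AltAut.exists_autHom 7 le_rfl
    have hψi : Function.Injective ψ := by
      rw [injective_iff_map_eq_one]
      intro a ha
      ext1 y
      have h1 := hψ a y
      rw [ha, one_mul, inv_one, mul_one] at h1
      exact Subtype.ext h1
    have h2 : Nat.card M ∣ 5040 := by
      have e1 : Nat.card (m.hat M ⧸ (Cfsg.Geo.scalars (Fin 4) K).subgroupOf (m.hat M)) = Nat.card M := by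
        rw [← hfk]
        exact Nat.card_congr (QuotientGroup.quotientKerEquivOfSurjective f hfs).toEquiv
      rw [← e1]
      refine (Subgroup.card_dvd_of_injective φ hφ).trans ?_
      rw [Nat.card_congr (MulAut.congr e).toEquiv]
      have h3 := Subgroup.card_dvd_of_injective ψ hψi
      rwa [Nat.card_eq_fintype_card (α := Equiv.Perm (Fin 7)), Fintype.card_perm, Fintype.card_fin] at h3
    have h3 := hsR.trans h2
    rw [hs7, hk2] at h3
    omega
  · obtain ⟨P, hq, -⟩ := h1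
    omega

end Cfsg.Agent.H36.O8R
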