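import Cfsg.Agent.H36.O8R.Psu
import Cfsg.Agent.H372.O8R.Ord
import Cfsg.Agent.S0303

/-!
# S3691, row `PΩ⁺₈(q)`, `q ≥ 16`: box SIX (helper36)

`R` stabilises an anisotropic plane `W`, and its order is divisible by `s^k`, `s = r₆`, and `r = r₄`: `R` contains `Ω(W^⊥) = Ω₆⁻(q)`.
-/

set_option autoImplicit false

namespace Cfsg.Agent.H36.O8R

section grp

open scoped commutatorElement

variable {G H : Type*} [Group G] [Group H]

theorem le_of_top {E : Type*} [Group E] (hE : ∀ N : Subgroup E, (∀ x y : E, ⁅x, y⁆ ∈ N) → N = ⊤) {N : Subgroup E}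
    (h : N.map (QuotientGroup.mk' (Subgroup.center E)) = ⊤) : N = ⊤ := by
  have key : ∀ x : E, ∃ g ∈ N, ∃ z ∈ Subgroup.center E, x = g * z := by
    intro x
    have h1 : QuotientGroup.mk' (Subgroup.center E) x ∈ N.map (QuotientGroup.mk' (Subgroup.center E)) := by
      rw [h]; trivial
    obtain ⟨g, hg, e⟩ := h1
    exact ⟨g, hg, g⁻¹ * x, QuotientGroup.eq.1 e, by group⟩
  refine hE N fun x y => ?_
  obtain ⟨g, hg, z, hz, rfl⟩ := key x
  obtain ⟨g', hg', z', hz', rfl⟩ := key y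
  have h1 : ∀ w, w * z = z * w := Subgroup.mem_center_iff.1 hz
  have h2 : ∀ w, w * z'⁻¹ = z'⁻¹ * w := Subgroup.mem_center_iff.1 (inv_mem hz')
  have e : ⁅g * z, g' * z'⁆ = ⁅g, g'⁆ := by
    rw [commutatorElement_def, commutatorElement_def, mul_inv_rev, mul_inv_rev]
    have h3 : g * z * (g' * z') * (z⁻¹ * g⁻¹) * (z'⁻¹ * g'⁻¹) = g * (z * (g' * z')) * z⁻¹ * (g⁻¹ * z'⁻¹) * g'⁻¹ := by
      group
    rw [h3, ← h1, h2]
    have h4 : g * (g' * z' * z) * z⁻¹ * (z'⁻¹ * g⁻¹) * g'⁻¹ = g * g' * g⁻¹ * g'⁻¹ := by group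
    exact h4
  rw [e]
  exact N.mul_mem (N.mul_mem (N.mul_mem hg hg') (N.inv_mem hg)) (N.inv_mem hg')

theorem dvd_map [Finite G] (f : G →* H) (N : Subgroup G) {m : ℕ} (hm : m ∣ Nat.card N)
    (hc : m.Coprime (Nat.card f.ker)) : m ∣ Nat.card (N.map f) := by
  have h1 := Subgroup.card_eq_card_quotient_mul_card_subgroup (f.subgroupMap N).ker
  have h2 : Nat.card (N ⧸ (f.subgroupMap N).ker) = Nat.card (N.map f) :=
    Nat.card_congr (QuotientGroup.quotientKerEquivOfSurjective _ (f.subgroupMap_surjective N)).toEquiv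
  have h3 : Nat.card (f.subgroupMap N).ker ∣ Nat.card f.ker := by
    let g : (f.subgroupMap N).ker →* f.ker :=
      { toFun := fun x => ⟨x.1.1, congrArg Subtype.val x.2⟩
        map_one' := rfl
        map_mul' := fun x y => rfl }
    refine Subgroup.card_dvd_of_injective g fun x y h => ?_
    apply Subtype.ext
    apply Subtype.ext
    exact congrArg (fun z : f.ker => (z : G)) h
  rw [h1, h2] at hm
  exact (Nat.Coprime.coprime_dvd_right h3 hc).dvd_of_dvd_mul_right hm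

theorem dvd_ker [Finite G] [Finite H] (f : G →* H) {m : ℕ} (hm : m ∣ Nat.card G)
    (hc : m.Coprime (Nat.card H)) : m ∣ Nat.card f.ker := by
  have h1 := Subgroup.card_eq_card_quotient_mul_card_subgroup f.ker
  have h2 : Nat.card (G ⧸ f.ker) = Nat.card f.range := Nat.card_congr (QuotientGroup.quotientKerEquivRange f).toEquiv
  rw [h1, h2] at hm
  exact (Nat.Coprime.coprime_dvd_right f.range.card_subgroup_dvd_card hc).dvd_of_dvd_mul_left hm

theorem dvd_subgroupOf [Finite G] (E N : Subgroup G) [E.Normal] {m : ℕ} (hm : m ∣ Nat.card N)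
    (hc : m.Coprime E.index) : m ∣ Nat.card (N.subgroupOf E) := by
  have h1 : Nat.card (E.subgroupOf N) * E.relIndex N = Nat.card N := Subgroup.card_mul_index _
  have h2 : E.relIndex N ∣ E.index := Subgroup.relIndex_dvd_index_of_normal E N
  have h3 : Nat.card (N.subgroupOf E) = Nat.card (E.subgroupOf N) := by
    rw [← Subgroup.card_map_of_injective E.subtype_injective, ← Subgroup.card_map_of_injective N.subtype_injective,
      Subgroup.subgroupOf_map_subtype, Subgroup.subgroupOf_map_subtype, inf_comm]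
  rw [← h1] at hm
  rw [h3]
  exact (Nat.Coprime.coprime_dvd_right h2 hc).dvd_of_dvd_mul_right hm

end grp

section orth

open Module QuadraticMap Cfsg Cfsg.Agent.LieClassical.OrthCore Cfsg.Agent.LieClassical.OrthTrans
  Cfsg.Agent.LieClassical.OrthSimple Cfsg.Agent.LieClassical.OrthFinite Cfsg.Agent.H955 Cfsg.Agent.H372.O8R
open scoped commutatorElement

section center

variable {F V : Type*} [Field F] [AddCommGroup V] [Module F V] {Q : QuadraticForm F V}

theorem E_top (hG : Good Q) (N : Subgroup (E Q)) (h : ∀ x y : E Q, ⁅x, y⁆ ∈ N) : N = ⊤ := by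
  have h1 : ⁅E Q, E Q⁆ ≤ N.map (E Q).subtype := by
    rw [Subgroup.commutator_le]
    intro x hx y hy
    exact ⟨_, h ⟨x, hx⟩ ⟨y, hy⟩, rfl⟩
  rw [hG.E_perfect] at h1
  rw [eq_top_iff]
  rintro ⟨x, hx⟩ -
  obtain ⟨y, hy, e⟩ := h1 hx
  have : y = ⟨x, hx⟩ := Subtype.ext e
  rwa [← this]

theorem center_sq (hG : Good Q) {z : E Q} (hz : z ∈ Subgroup.center (E Q)) : z ^ 2 = 1 := by
  have hN : ∀ g ∈ E Q, ∀ n ∈ (Subgroup.center (E Q)).map (E Q).subtype,
      g * n * g⁻¹ ∈ (Subgroup.center (E Q)).map (E Q).subtype := by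
    rintro g hg _ ⟨n, hn, rfl⟩
    have h1 : (⟨g, hg⟩ : E Q) * n = n * ⟨g, hg⟩ := Subgroup.mem_center_iff.1 hn _
    have h2 : g * (n : V ≃ₗ[F] V) = n * g := congrArg Subtype.val h1
    refine ⟨n, hn, ?_⟩
    change (n : V ≃ₗ[F] V) = g * n * g⁻¹
    rw [h2, mul_inv_cancel_right]
  obtain ⟨x, y, hxy⟩ := hG.exists_hyp
  rcases good_normal_dichotomy hG (Subgroup.map_subtype_le _) hN with h | h
  · obtain ⟨c, hc⟩ := h z ⟨z, hz, rfl⟩
    have h1 : Q (x + y) = 1 := by rw [Q_add, hxy.left, hxy.right, hxy.pair, zero_add, zero_add]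
    have h2 : Q ((z : V ≃ₗ[F] V) (x + y)) = Q (x + y) := E_le_O z.2 _
    rw [hc, QuadraticMap.map_smul, h1, smul_eq_mul, mul_one] at h2
    apply Subtype.ext
    ext v
    change (z : V ≃ₗ[F] V) ((z : V ≃ₗ[F] V) v) = v
    rw [hc, hc, smul_smul, h2, one_smul]
  · exfalso
    have h1 : ∀ g ∈ E Q, ∀ k ∈ E Q, g * k = k * g := by
      intro g hg k hk
      rw [← h] at hk
      obtain ⟨n, hn, rfl⟩ := hk
      have h1 : (⟨g, hg⟩ : E Q) * n = n * ⟨g, hg⟩ := Subgroup.mem_center_iff.1 hn _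
      exact congrArg Subtype.val h1
    obtain ⟨g, hg, hg1⟩ := good_E_ne_bot hG
    rw [← hG.E_perfect] at hg
    have h2 : ⁅E Q, E Q⁆ ≤ ⊥ := by
      rw [Subgroup.commutator_le]
      intro g hg k hk
      rw [Subgroup.mem_bot, commutatorElement_eq_one_iff_mul_comm]
      exact h1 g hg k hk
    exact hg1 (h2 hg)

end center

section iso

variable {F : Type} [Field F] [Fintype F] {V : Type} [AddCommGroup V] [Module F V] [FiniteDimensional F V]
  {Q : QuadraticForm F V}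

/-- `Ω₆⁻(q)` modulo its centre is `PSU₄(q)` -/
theorem exists_iso (hQ : Nondeg Q) (hd : finrank F V = 6) (hP : ¬ IsPlus Q) {K : Type} [Field K] [Fintype K] {q : ℕ}
    (hF : Fintype.card F = q) (hK : Fintype.card K = q ^ 2) :
    Nonempty ((E Q ⧸ Subgroup.center (E Q)) ≃* PSU 4 K q) := by
  obtain ⟨a, b, hab⟩ := exists_aniso_coeff F
  obtain ⟨e, he⟩ := exists_minus_equiv hab 2 Q hQ (by omega) hP
  obtain ⟨φ⟩ := S0303.result hF hK a b hab
  have hG : Good (LieClassical.QuadForms.minusForm 2 F a b) := by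
    refine good_of_finite (nondeg_of_equiv e he hQ) ?_
    rw [Module.finrank_fintype_fun_eq_card]
    simp only [Fintype.card_sum, Fintype.card_fin]
    omega
  have h1 : (E Q).map (cj e).toMonoidHom = E (LieClassical.QuadForms.minusForm 2 F a b) := by
    apply le_antisymm (map_cj_E_le he)
    intro g hg
    refine ⟨_, map_cj_E_le (e := e.symm) (fun v => by rw [← he, LinearEquiv.apply_symm_apply]) ⟨g, hg, rfl⟩, ?_⟩
    ext v
    show e (e.symm (g (e.symm.symm (e.symm v)))) _ = g v _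
    simp
  let θ : E Q ≃* Omega F ⇑(LieClassical.QuadForms.minusForm 2 F a b) :=
    (((E Q).equivMapOfInjective (cj e).toMonoidHom (cj e).injective).trans (MulEquiv.subgroupCongr h1)).trans
      ((omegaEquiv (LieClassical.QuadForms.minusForm 2 F a b)).trans
        (MulEquiv.subgroupCongr hG.commutator_eq_E)).symm
  rw [← LieClassical.QuadForms.coe_minusForm] at φ
  exact ⟨(quotientCenterCongr θ).trans φ⟩

end iso

section main

variable {F : Type} [Field F] [Fintype F] {V : Type} [AddCommGroup V] [Module F V] [FiniteDimensional F V]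
  {Q : QuadraticForm F V}

/-- a subgroup of `O₆⁻(q)` of order divisible by `s^k`, `r` contains `Ω₆⁻(q)` -/
theorem E_le_of_dvd (hQ : Nondeg Q) (hd : finrank F V = 6) (hP : ¬ IsPlus Q) {p a s k r : ℕ}
    (hF : Fintype.card F = p ^ a) (hp : p.Prime) (ha : 1 ≤ a) (h4 : 4 ≤ p ^ a)
    (hs : H436.Prim p (6 * a) s) (hsc : (13 ≤ s ∧ k = 1) ∨ (s = 7 ∧ k = 2)) (hr : H436.Prim p (4 * a) r)
    {K : Type} [Field K] [Fintype K] (hK : Fintype.card K = (p ^ a) ^ 2) (hL : H833.Spr4.ResList K (p ^ a))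
    (N : Subgroup (O Q)) (hsN : s ^ k ∣ Nat.card N) (hrN : r ∣ Nat.card N) : (E Q).subgroupOf (O Q) ≤ N := by
  have : Finite V := Module.finite_of_finite F
  have hfin : Finite (V ≃ₗ[F] V) := Finite.of_injective (fun g : V ≃ₗ[F] V => (g : V → V)) DFunLike.coe_injective
  have hG : Good Q := good_of_finite hQ (by omega)
  obtain ⟨j, hj, hcard⟩ := card_E_mul 2 le_rfl hQ hd
  have hs2 : s ≠ 2 := by rcases hsc with h | h <;> omega
  have hr2 : r ≠ 2 := by
    rintro rfl
    have := hr.odd (by omega)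
    omega
  set E₁ : Subgroup (O Q) := (E Q).subgroupOf (O Q) with hE₁
  have hn : E₁.Normal := by
    refine ⟨fun n hn g => ?_⟩
    rw [hE₁, Subgroup.mem_subgroupOf] at hn ⊢
    exact conj_mem_E g.2 hn
  have hidx : E₁.index = j := by
    have h1 : Nat.card E₁ * E₁.index = Nat.card (O Q) := E₁.card_mul_index
    have h2 : Nat.card E₁ = Nat.card (E Q) := Nat.card_congr (Subgroup.subgroupOfEquivOfLe E_le_O).toEquiv
    rw [← hcard, h2] at h1
    exact Nat.eq_of_mul_eq_mul_left Nat.card_pos h1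
  let θ : E₁ ≃* E Q := Subgroup.subgroupOfEquivOfLe E_le_O
  have hE : ∀ M : Subgroup E₁, (∀ x y : E₁, ⁅x, y⁆ ∈ M) → M = ⊤ := by
    intro M hM
    have h1 := E_top hG (M.map θ.toMonoidHom) (fun x y => by
      refine ⟨⁅θ.symm x, θ.symm y⁆, hM _ _, ?_⟩
      change θ ⁅θ.symm x, θ.symm y⁆ = _
      rw [map_commutatorElement, MulEquiv.apply_symm_apply, MulEquiv.apply_symm_apply])
    rw [eq_top_iff]
    intro x _
    have h2 : θ x ∈ M.map θ.toMonoidHom := by rw [h1]; trivial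
    obtain ⟨y, hy, e⟩ := h2
    rwa [← θ.injective e]
  have hZ : ∀ z ∈ Subgroup.center E₁, z ^ 2 = 1 := by
    intro z hz
    apply θ.injective
    rw [map_pow, map_one]
    apply center_sq hG
    rw [Subgroup.mem_center_iff] at hz ⊢
    intro g
    obtain ⟨g, rfl⟩ := θ.surjective g
    rw [← map_mul, hz, map_mul]
  have hcop : ∀ l : ℕ, l.Prime → l ≠ 2 → l.Coprime (Nat.card (Subgroup.center E₁)) := by
    intro l hl hl2
    rw [hl.coprime_iff_not_dvd]
    intro hd
    have := Fact.mk hl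
    obtain ⟨z, hz⟩ := exists_prime_orderOf_dvd_card' l hd
    have h1 : z ^ 2 = 1 := Subtype.ext (hZ z.1 z.2)
    have h2 := orderOf_dvd_of_pow_eq_one h1
    rw [hz] at h2
    exact hl2 ((Nat.prime_dvd_prime_iff_eq hl Nat.prime_two).1 h2)
  have hcopj : ∀ l : ℕ, l.Prime → l ≠ 2 → l.Coprime E₁.index := by
    intro l hl hl2
    rw [hl.coprime_iff_not_dvd, hidx]
    intro hd
    have h1 : l ∣ 2 ^ 2 := hd.trans (by rcases hj with rfl | rfl <;> norm_num)
    exact hl2 ((Nat.prime_dvd_prime_iff_eq hl Nat.prime_two).1 (hl.dvd_of_dvd_pow h1))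
  obtain ⟨φ₀⟩ := exists_iso hQ hd hP hF hK
  let φ : (E₁ ⧸ Subgroup.center E₁) ≃* PSU 4 K (p ^ a) := (quotientCenterCongr θ).trans φ₀
  let M : Subgroup (PSU 4 K (p ^ a)) := (N.subgroupOf E₁).map (φ.toMonoidHom.comp (QuotientGroup.mk' (Subgroup.center E₁)))
  have hker : (φ.toMonoidHom.comp (QuotientGroup.mk' (Subgroup.center E₁))).ker = Subgroup.center E₁ := by
    ext x
    rw [MonoidHom.mem_ker, MonoidHom.comp_apply]
    change φ (QuotientGroup.mk' (Subgroup.center E₁) x) = 1 ↔ _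
    rw [map_eq_one_iff φ φ.injective]
    exact QuotientGroup.eq_one_iff x
  have hM : ∀ (l c : ℕ), l.Prime → l ≠ 2 → l ^ c ∣ Nat.card N → l ^ c ∣ Nat.card M := by
    intro l c hl hl2 hd
    refine dvd_map _ _ (dvd_subgroupOf E₁ N hd ((hcopj l hl hl2).pow_left c)) ?_
    rw [hker]
    exact (hcop l hl hl2).pow_left c
  have htop : M = ⊤ := psu4_top hK hp ha h4 hs hsc hr hL M (hM s k hs.prime hs2 hsN)
    (by simpa using hM r 1 hr.prime hr2 (by simpa using hrN))
  have h1 : (N.subgroupOf E₁).map (QuotientGroup.mk' (Subgroup.center E₁)) = ⊤ := by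
    rw [eq_top_iff]
    intro x _
    have h2 : φ x ∈ M := by rw [htop]; trivial
    obtain ⟨y, hy, e⟩ := h2
    exact ⟨y, hy, φ.injective e⟩
  have h2 := le_of_top hE h1
  intro x hx
  have h3 : (⟨x, hx⟩ : E₁) ∈ N.subgroupOf E₁ := by rw [h2]; trivial
  exact h3

end main

section six

open Cfsg.Geo Cfsg.Agent.H884.El Cfsg.Agent.H823.O8S Cfsg.Agent.H823.O8R
open Cfsg.Agent.H708.O8 (I8 T8 RB)
open scoped MatrixGroups Matrix

variable {F : Type} [Field F] [Fintype F] {p a r b s k t : ℕ} {R : Subgroup (T8 F)}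

/-- **(SIX)** -/
theorem six_of (hF : Nat.card F = p ^ a) (h : Nm p a r b s k t)
    (hL : ∀ (K : Type) [Field K] [Fintype K], Fintype.card K = (p ^ a) ^ 2 → H833.Spr4.ResList K (p ^ a))
    {W : Submodule F (I8 → F)} (hW : finrank F W = 2)
    (hW0 : ∀ w ∈ W, quadFormPlus 4 F w = 0 → w = 0) (hR : pre (quadFormPlus 4 F) R ≤ SW W)
    (hs : s ^ k ∣ Nat.card R) (hr : r ∣ Nat.card R) : HasSieg R W := by
  have hp : p.Prime := h.rb.hp
  have ha : 1 ≤ a := h.rb.ha
  have := Fact.mk hp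
  let K := GaloisField p (2 * a)
  have : Fintype K := Fintype.ofFinite K
  have hK : Fintype.card K = (p ^ a) ^ 2 := by
    rw [← Nat.card_eq_fintype_card, GaloisField.card p (2 * a) (by omega), ← pow_mul, mul_comm]
  have hfin : Finite ((I8 → F) ≃ₗ[F] (I8 → F)) :=
    Finite.of_injective (fun g : (I8 → F) ≃ₗ[F] (I8 → F) => (g : (I8 → F) → (I8 → F))) DFunLike.coe_injective
  have hfinW : Finite (W ≃ₗ[F] W) := Finite.of_injective (fun g : W ≃ₗ[F] W => (g : W → W)) DFunLike.coe_injective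
  have hnW := nondeg_W hW hW0
  set G' : Subgroup ((I8 → F) ≃ₗ[F] (I8 → F)) :=
    (pre (quadFormPlus 4 F) R).map (LieClassical.OrthFinite.glEquiv I8 F).toMonoidHom with hG'
  have hle : G' ≤ StO (Q8 F) W := pre_map_le hR
  let f : G' →* O (res (Q8 F) W) := (rO (Q8 F) W).comp (Subgroup.inclusion hle)
  let f₂ : f.ker →* O (res (Q8 F) (perp (Q8 F) W)) :=
    ((rO (Q8 F) (perp (Q8 F) W)).comp (Subgroup.inclusion (hle.trans (StO_perp nd_Q8 W)))).comp f.ker.subtype
  have hinj : Function.Injective f₂ := by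
    intro x y hxy
    apply Subtype.ext
    apply Subgroup.inclusion_injective hle
    apply rO2_injective (nd_Q8 (F := F)) hnW
    refine Prod.ext ?_ ?_
    · exact (x.2 : f x.1 = 1).trans (y.2 : f y.1 = 1).symm
    · exact hxy
  have hcR : Nat.card R ∣ Nat.card G' := by
    rw [hG', Subgroup.card_map_of_injective (LieClassical.OrthFinite.glEquiv I8 F).injective]
    exact card_dvd_pre
  have hcr : Nat.card f₂.range = Nat.card f.ker := Nat.card_congr (MonoidHom.ofInjective hinj).toEquiv.symm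
  have hcop : ∀ l : ℕ, l.Prime → l ≠ 2 → ¬ l ∣ p ^ a + 1 → l.Coprime (Nat.card (O (res (Q8 F) W))) := by
    intro l hl hl2 hl3
    rw [hl.coprime_iff_not_dvd, card_O_W hF hW hW0, hl.dvd_mul, not_or]
    exact ⟨fun hd => hl2 ((Nat.prime_dvd_prime_iff_eq hl Nat.prime_two).1 hd), hl3⟩
  have hs2 : s ≠ 2 := by rcases h.rk.cases with h | h <;> omega
  have hr2 : r ≠ 2 := by
    have := h.rb.prim.odd (by omega)
    omega
  have hsp : ¬ s ∣ p ^ a + 1 := h.rk.prim.not_dvd_add fun hd => by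
    have := Nat.le_of_dvd (by omega) hd
    omega
  have hrp : ¬ r ∣ p ^ a + 1 := h.rb.prim.not_dvd_add fun hd => by
    have := Nat.le_of_dvd (by omega) hd
    omega
  have key := E_le_of_dvd (nondeg_perp (nd_Q8 (F := F)) hnW) (dim_perp hW) (not_isPlus_perp hW hW0)
    (by rw [← hF, Nat.card_eq_fintype_card]) hp ha (by have := h.q16; omega) h.rk.prim h.rk.cases h.rb.prim hK
    (hL K hK) f₂.range
    (by rw [hcr]; exact dvd_ker f (hs.trans hcR) ((hcop s h.rk.prim.prime hs2 hsp).pow_left k))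
    (by rw [hcr]; exact dvd_ker f (hr.trans hcR) (hcop r h.rb.prim.prime hr2 hrp))
  intro u w hu hw huW hwW
  have hu' : u ∈ perp (Q8 F) W := fun v hv => by rw [polar_comm]; exact huW v hv
  have hw' : w ∈ perp (Q8 F) W := fun v hv => by rw [polar_comm]; exact hwW v hv
  have hu1 : res (Q8 F) (perp (Q8 F) W) ⟨u, hu'⟩ = 0 := hu
  have hw1 : polar (res (Q8 F) (perp (Q8 F) W)) ⟨u, hu'⟩ ⟨w, hw'⟩ = 0 := hw
  have h1 := @key ⟨siegel (res (Q8 F) (perp (Q8 F) W)) ⟨u, hu'⟩ ⟨w, hw'⟩ hu1 hw1, siegel_mem_O hu1 hw1⟩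
    (Subgroup.mem_subgroupOf.2 (siegel_mem_E hu1 hw1))
  obtain ⟨n, hn⟩ := h1
  have h2 : ((n : G') : (I8 → F) ≃ₗ[F] (I8 → F)) = siegel (Q8 F) u w hu hw := by
    ext1 v
    obtain ⟨x, rfl⟩ := (decomp hnW).surjective v
    rw [decomp_apply, map_add, map_add]
    congr 1
    · have h3 : ((n : G') : (I8 → F) ≃ₗ[F] (I8 → F)) (x.1 : I8 → F) = x.1 :=
        congrArg (fun g : ↥(O (res (Q8 F) W)) => ((g.1 x.1 : W) : I8 → F)) (n.2 : f n.1 = 1)
      rw [h3, siegel_apply, huW _ x.1.2, hwW _ x.1.2]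
      simp
    · exact congrArg (fun g : ↥(O (res (Q8 F) (perp (Q8 F) W))) => ((g.1 x.2 : perp (Q8 F) W) : I8 → F)) hn
  obtain ⟨y, hy, e⟩ := (n : G').2
  rw [← h2, ← e]
  change (LieClassical.OrthFinite.glEquiv I8 F).symm ((LieClassical.OrthFinite.glEquiv I8 F) y) ∈ _
  rw [MulEquiv.symm_apply_apply]
  exact hy

end six

end orth

end Cfsg.Agent.H36.O8R
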